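import Mathlib
import Groth.Agent.Lib.RedNorm.Matrix
import Groth.Agent.Lib.AffDom.Formula

/-!
# The variety of nilpotent matrices is irreducible of dimension `n² - n`
-/

set_option autoImplicit false
universe u

open Matrix MvPolynomial

namespace GrothLib.NilVariety

variable (k : Type u) [Field k] (n : ℕ)

/-- The variables: the entries of `g`, then of `u`. -/
abbrev Vars := (Fin n × Fin n) ⊕ (Fin n × Fin n)

/-- The generic matrix `g · u · adj g`, `u` strictly upper triangular. -/
noncomputable def genNil : Matrix (Fin n) (Fin n) (MvPolynomial (Vars n) k) :=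
  (Matrix.of fun i j => X (Sum.inl (i, j))) * (Matrix.of fun i j => if i < j then X (Sum.inr (i, j)) else 0) *
    Matrix.adjugate (Matrix.of fun i j => X (Sum.inl (i, j)))

/-- The parametrisation of nilpotent matrices. -/
noncomputable def param : MvPolynomial (Fin n × Fin n) k →ₐ[k] MvPolynomial (Vars n) k :=
  aeval fun p => genNil k n p.1 p.2

theorem param_map : (mvPolynomialX (Fin n) (Fin n) k).map (param k n) = genNil k n :=
  Matrix.ext fun i j => aeval_X _ _

theorem charpoly_genNil : (genNil k n).charpoly = Polynomial.X ^ n := by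
  rw [genNil, Matrix.charpoly_mul_comm, ← Matrix.mul_assoc, Matrix.adjugate_mul, Matrix.smul_mul, Matrix.one_mul,
    Matrix.charpoly_of_isUpperTriangular]
  · simp
  · intro i j hij
    simp [not_lt.2 (le_of_lt (show j < i from hij))]

theorem span_le_ker (I : Ideal (MvPolynomial (Fin n × Fin n) k))
    (hI : I = Ideal.span (Set.range (fun i : Fin n =>
      (Matrix.charpoly (Matrix.mvPolynomialX (Fin n) (Fin n) k)).coeff (i : ℕ)))) :
    I ≤ RingHom.ker (param k n).toRingHom := by
  rw [hI, Ideal.span_le]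
  rintro _ ⟨i, rfl⟩
  have h := congrArg (fun p => Polynomial.coeff p (i : ℕ)) (Matrix.charpoly_map (mvPolynomialX (Fin n) (Fin n) k) (param k n).toRingHom)
  simp only [Polynomial.coeff_map] at h
  rw [SetLike.mem_coe, RingHom.mem_ker, ← h]
  show ((mvPolynomialX (Fin n) (Fin n) k).map (param k n)).charpoly.coeff _ = 0
  rw [param_map, charpoly_genNil, Polynomial.coeff_X_pow, if_neg (ne_of_lt i.2)]

theorem charpoly_eq_X_pow {A : Type u} [CommRing A] [Nontrivial A] (M : Matrix (Fin n) (Fin n) A)
    (h : ∀ i : Fin n, M.charpoly.coeff (i : ℕ) = 0) : M.charpoly = Polynomial.X ^ n := by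
  have hdeg : M.charpoly.natDegree = n := by rw [Matrix.charpoly_natDegree_eq_dim, Fintype.card_fin]
  refine Polynomial.ext fun i => ?_
  rw [Polynomial.coeff_X_pow]
  rcases lt_trichotomy i n with h' | h' | h'
  · rw [if_neg h'.ne]; exact h ⟨i, h'⟩
  · rw [if_pos h', h']
    simpa [hdeg] using M.charpoly_monic.coeff_natDegree
  · rw [if_neg h'.ne']
    exact Polynomial.coeff_eq_zero_of_natDegree_lt (by rw [hdeg]; exact h')

theorem diag_eq_zero {A : Type u} [CommRing A] [IsDomain A] (M : Matrix (Fin n) (Fin n) A)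
    (hM : M.BlockTriangular id) (h : M.charpoly = Polynomial.X ^ n) (i : Fin n) : M i i = 0 := by
  rw [Matrix.charpoly_of_isUpperTriangular _ hM] at h
  have h' := congrArg (Polynomial.eval (M i i)) h
  have hz : (∏ j, (Polynomial.X - Polynomial.C (M j j))).eval (M i i) = 0 := by
    rw [Polynomial.eval_prod]
    exact Finset.prod_eq_zero (Finset.mem_univ i) (by simp)
  rw [hz, Polynomial.eval_pow, Polynomial.eval_X] at h'
  exact eq_zero_of_pow_eq_zero h'.symm

/-- Nilpotent matrices are in the image of the parametrisation. -/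
theorem exists_param [IsAlgClosed k] (A : Matrix (Fin n) (Fin n) k) (hA : IsNilpotent A) :
    ∃ y : Vars n → k, (genNil k n).map (eval y) = A := by
  obtain ⟨P, Q, T, hPQ, hQP, hT, rfl⟩ := GrothLib.RedNorm.exists_triangular n A
  obtain ⟨N, hN⟩ := hA
  have hpow : ∀ m, T ^ m = Q * (P * T * Q) ^ m * P := by
    intro m
    induction m with
    | zero => simp [hQP]
    | succ m ih =>
      rw [pow_succ, pow_succ, ih]
      calc Q * (P * T * Q) ^ m * P * T = Q * (P * T * Q) ^ m * P * T * (Q * P) := by rw [hQP, Matrix.mul_one]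
        _ = Q * ((P * T * Q) ^ m * (P * T * Q)) * P := by noncomm_ring
  have hdiag : ∀ i, T i i = 0 := by
    intro i
    have h2 : ∀ m, (T ^ m).BlockTriangular id ∧ (T ^ m) i i = T i i ^ m := by
      intro m
      induction m with
      | zero => simp [Matrix.blockTriangular_one]
      | succ m ih =>
        rw [pow_succ]
        exact ⟨ih.1.mul hT, by rw [GrothLib.RedNorm.triangular_mul_diag ih.1 hT, ih.2, pow_succ]⟩
    have h3 := (h2 N).2
    rw [hpow, hN, Matrix.mul_zero, Matrix.zero_mul, Matrix.zero_apply] at h3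
    exact eq_zero_of_pow_eq_zero h3.symm
  have hdet : P.det ≠ 0 := fun h => by
    have := congrArg Matrix.det hPQ
    rw [Matrix.det_mul, h, zero_mul, Matrix.det_one] at this
    exact zero_ne_one this
  refine ⟨Sum.elim (fun p => P p.1 p.2) (fun p => P.det⁻¹ * T p.1 p.2), ?_⟩
  show (genNil k n).map (eval (Sum.elim (fun p : Fin n × Fin n => P p.1 p.2)
    (fun p : Fin n × Fin n => P.det⁻¹ * T p.1 p.2))) = _
  set ψ := eval (Sum.elim (fun p : Fin n × Fin n => P p.1 p.2) (fun p : Fin n × Fin n => P.det⁻¹ * T p.1 p.2))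
  have hG : ψ.mapMatrix (Matrix.of fun i j => X (Sum.inl (i, j))) = P := by
    ext i j; simp [ψ]
  have hU : ψ.mapMatrix (Matrix.of fun i j => if i < j then X (Sum.inr (i, j)) else 0) = P.det⁻¹ • T := by
    ext i j
    by_cases hij : i < j
    · simp [ψ, hij]
    · rcases (not_lt.1 hij).eq_or_lt with h | h
      · subst h; simp [ψ, hdiag]
      · simp [ψ, hij, hT (show id j < id i from h)]
  have hadj : P.adjugate = P.det • Q := by
    calc P.adjugate = P.adjugate * (P * Q) := by rw [hPQ, Matrix.mul_one]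
      _ = P.det • Q := by rw [← Matrix.mul_assoc, Matrix.adjugate_mul, Matrix.smul_mul, Matrix.one_mul]
  show ψ.mapMatrix (genNil k n) = _
  rw [genNil, map_mul, map_mul, hG, hU, RingHom.map_adjugate, hG, hadj, Matrix.mul_smul, Matrix.mul_smul,
    Matrix.smul_mul, smul_smul, mul_inv_cancel₀ hdet, one_smul]

theorem radical_eq_ker [IsAlgClosed k] (I : Ideal (MvPolynomial (Fin n × Fin n) k))
    (hI : I = Ideal.span (Set.range (fun i : Fin n =>
      (Matrix.charpoly (Matrix.mvPolynomialX (Fin n) (Fin n) k)).coeff (i : ℕ)))) :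
    I.radical = RingHom.ker (param k n).toRingHom := by
  haveI : (RingHom.ker (param k n).toRingHom).IsPrime := RingHom.ker_isPrime _
  refine le_antisymm ((Ideal.IsPrime.radical_le_iff inferInstance).2 (span_le_ker k n I hI)) fun f hf => ?_
  rw [← MvPolynomial.vanishingIdeal_zeroLocus_eq_radical (k := k) (K := k) I]
  intro x hx
  let A : Matrix (Fin n) (Fin n) k := Matrix.of fun i j => x (i, j)
  have hmap : (mvPolynomialX (Fin n) (Fin n) k).map (eval x) = A :=
    Matrix.ext fun i j => eval_X _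
  have hchar : A.charpoly = Polynomial.X ^ n := charpoly_eq_X_pow n A fun i => by
    rw [← hmap, Matrix.charpoly_map, Polynomial.coeff_map]
    have hmem : (mvPolynomialX (Fin n) (Fin n) k).charpoly.coeff (i : ℕ) ∈ I := by
      rw [hI]; exact Ideal.subset_span ⟨i, rfl⟩
    have := hx _ hmem
    rwa [aeval_eq_eval] at this
  have hnil : IsNilpotent A := ⟨n, by
    have := Matrix.aeval_self_charpoly A
    rwa [hchar, Polynomial.aeval_X_pow] at this⟩
  obtain ⟨y, hy⟩ := exists_param k n A hnil
  have hxy : x = fun p => eval y (genNil k n p.1 p.2) := funext fun p => by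
    have := congrFun (congrFun hy p.1) p.2
    exact this.symm
  rw [aeval_eq_eval, hxy]
  have h2 : eval y (param k n f) = eval (fun p => eval y (genNil k n p.1 p.2)) f := by
    rw [param, ← aeval_eq_eval, ← AlgHom.comp_apply, comp_aeval, aeval_eq_eval]
  rw [← h2, show param k n f = 0 from hf, map_zero]

theorem main [IsAlgClosed k] (I : Ideal (MvPolynomial (Fin n × Fin n) k))
    (hI : I = Ideal.span (Set.range (fun i : Fin n =>
      (Matrix.charpoly (Matrix.mvPolynomialX (Fin n) (Fin n) k)).coeff (i : ℕ)))) :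
    IrreducibleSpace (PrimeSpectrum (MvPolynomial (Fin n × Fin n) k ⧸ I)) ∧
      ringKrullDim (MvPolynomial (Fin n × Fin n) k ⧸ I) = ((n ^ 2 - n : ℕ) : WithBot ℕ∞) := by
  classical
  set R := MvPolynomial (Fin n × Fin n) k
  obtain ⟨P, hPI⟩ : ∃ P : Ideal R, P = I.radical := ⟨_, rfl⟩
  haveI hPp : P.IsPrime := by rw [hPI, radical_eq_ker k n I hI]; exact RingHom.ker_isPrime _
  have hPmin : P ∈ I.minimalPrimes := by
    refine ⟨⟨hPp, hPI ▸ Ideal.le_radical⟩, fun Q hQ _ => ?_⟩
    rw [hPI]; exact (Ideal.IsPrime.radical_le_iff hQ.1).2 hQ.2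
  refine ⟨?_, ?_⟩
  · rw [PrimeSpectrum.irreducibleSpace_iff_isPrime_nilradical]
    have : nilradical (R ⧸ I) = P.map (Ideal.Quotient.mk I) := by
      rw [hPI, nilradical, Ideal.zero_eq_bot, Ideal.map_radical_of_surjective Ideal.Quotient.mk_surjective
        (by rw [Ideal.mk_ker]), Ideal.map_quotient_self]
    rw [this]
    exact Ideal.isPrime_map_quotientMk_of_isPrime (hPI ▸ Ideal.le_radical)
  have hdim : ringKrullDim (R ⧸ I) = ringKrullDim (R ⧸ P) := by
    rw [ringKrullDim_quotient, ringKrullDim_quotient, hPI, PrimeSpectrum.zeroLocus_radical]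
  rw [hdim]
  have hR : ringKrullDim R = ((n ^ 2 : ℕ) : WithBot ℕ∞) := by
    rw [MvPolynomial.ringKrullDim_of_isNoetherianRing, ringKrullDim_eq_zero_of_field, zero_add,
      Nat.card_prod, Nat.card_eq_fintype_card, Fintype.card_fin, sq]
  have hform := GrothLib.AffDom.height_add_ringKrullDim_quotient (k := k) R P
  obtain ⟨h, hh⟩ := ENat.ne_top_iff_exists.1 (Ideal.height_ne_top (I := P) hPp.ne_top)
  obtain ⟨d, hd⟩ : ∃ d : ℕ, ringKrullDim (R ⧸ P) = d := by
    have h0 : ringKrullDim (R ⧸ P) ≠ ⊥ := ne_bot_of_le_ne_bot (WithBot.coe_ne_bot (a := (0 : ℕ∞)))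
      ringKrullDim_nonneg_of_nontrivial
    obtain ⟨e, he⟩ := WithBot.ne_bot_iff_exists.1 h0
    obtain ⟨d, rfl⟩ : ∃ d : ℕ, (d : ℕ∞) = e := ENat.ne_top_iff_exists.1 fun ht => by
      have hle : ringKrullDim (R ⧸ P) ≤ ((n ^ 2 : ℕ) : WithBot ℕ∞) := hR ▸ ringKrullDim_quotient_le P
      rw [← he, ht] at hle
      exact absurd (WithBot.coe_le_coe.1 hle) (not_le.2 (ENat.natCast_lt_top _))
    exact ⟨d, he.symm⟩
  rw [hd, ← hh, hR] at hform
  have hsum : h + d = n ^ 2 := by exact_mod_cast hform
  -- at most `n` equations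
  have hupper : h ≤ n := by
    have h1 := Ideal.height_le_card_of_mem_minimalPrimes_span_finset (p := P)
      (s := Finset.univ.image fun i : Fin n =>
        (Matrix.charpoly (Matrix.mvPolynomialX (Fin n) (Fin n) k)).coeff (i : ℕ))
      (by rw [Finset.coe_image, Finset.coe_univ, Set.image_univ, ← hI]; exact hPmin)
    rw [← hh] at h1
    have h2 := le_trans h1 (Nat.cast_le.2 (Finset.card_image_le.trans (le_of_eq (Finset.card_fin n))))
    exact_mod_cast h2
  -- the diagonal slice
  set m : Ideal R := RingHom.ker (eval (0 : Fin n × Fin n → k))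
  haveI : m.IsMaximal := RingHom.ker_isMaximal_of_surjective _ fun c => ⟨C c, eval_C c⟩
  have hXm : ∀ p, (X p : R) ∈ m := fun p => by simp [m, RingHom.mem_ker]
  have hPm : P ≤ m := by
    rw [hPI, Ideal.IsPrime.radical_le_iff inferInstance, hI, Ideal.span_le]
    rintro _ ⟨i, rfl⟩
    rw [SetLike.mem_coe, RingHom.mem_ker, ← Polynomial.coeff_map, ← Matrix.charpoly_map,
      show (mvPolynomialX (Fin n) (Fin n) k).map (eval 0) = 0 from Matrix.ext fun a b => eval_X _,
      Matrix.charpoly_zero, Polynomial.coeff_X_pow, if_neg]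
    rw [Fintype.card_fin]
    exact ne_of_lt i.2
  let J : Finset R := ((Finset.univ : Finset (Fin n × Fin n)).filter fun p => p.1 ≠ p.2).image fun p => X p
  have hJcard : J.card ≤ n ^ 2 - n := by
    refine Finset.card_image_le.trans (le_of_eq ?_)
    rw [show ((Finset.univ : Finset (Fin n × Fin n)).filter fun p => p.1 ≠ p.2) = Finset.univ.offDiag by ext; simp,
      Finset.offDiag_card, Finset.card_fin, sq]
  set mb := m.map (Ideal.Quotient.mk P)
  haveI : mb.IsMaximal := Ideal.IsMaximal.map_of_surjective_of_ker_le Ideal.Quotient.mk_surjective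
    (by rw [Ideal.mk_ker]; exact hPm)
  have hmb : mb ∈ (Ideal.span ((J.image (Ideal.Quotient.mk P) : Finset (R ⧸ P)) : Set (R ⧸ P))).minimalPrimes := by
    refine ⟨⟨inferInstance, Ideal.span_le.2 fun z hz => ?_⟩, fun Q hQ _ => ?_⟩
    · obtain ⟨r, hr, rfl⟩ := Finset.mem_image.1 hz
      obtain ⟨p, -, rfl⟩ := Finset.mem_image.1 hr
      exact Ideal.mem_map_of_mem _ (hXm p)
    · haveI := hQ.1
      have hoff : ∀ p : Fin n × Fin n, p.1 ≠ p.2 → Ideal.Quotient.mk P (X p) ∈ Q := fun p hp =>
        hQ.2 (Ideal.subset_span (Finset.mem_image_of_mem _ (Finset.mem_image_of_mem _ (by simpa using hp))))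
      let ρ : R →+* (R ⧸ P) ⧸ Q := (Ideal.Quotient.mk Q).comp (Ideal.Quotient.mk P)
      let D := (mvPolynomialX (Fin n) (Fin n) k).map ρ
      have hDchar : D.charpoly = Polynomial.X ^ n := charpoly_eq_X_pow n D fun i => by
        rw [Matrix.charpoly_map, Polynomial.coeff_map]
        have hc : (mvPolynomialX (Fin n) (Fin n) k).charpoly.coeff (i : ℕ) ∈ P :=
          hPI ▸ Ideal.le_radical (hI ▸ Ideal.subset_span ⟨i, rfl⟩)
        show Ideal.Quotient.mk Q (Ideal.Quotient.mk P _) = 0
        rw [Ideal.Quotient.eq_zero_iff_mem.2 hc, map_zero]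
      have hD : D.BlockTriangular id := fun i j hij => by
        show Ideal.Quotient.mk Q (Ideal.Quotient.mk P (X (i, j))) = 0
        exact Ideal.Quotient.eq_zero_iff_mem.2 (hoff (i, j) (ne_of_gt (show j < i from hij)))
      have hdiag : ∀ i, D i i = 0 := diag_eq_zero n D hD hDchar
      have hall : ∀ p : Fin n × Fin n, Ideal.Quotient.mk P (X p) ∈ Q := fun p => by
        rcases eq_or_ne p.1 p.2 with h' | h'
        · obtain ⟨i, j⟩ := p
          obtain rfl : i = j := h'
          exact Ideal.Quotient.eq_zero_iff_mem.1 (hdiag i)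
        · exact hoff p h'
      refine Ideal.map_le_iff_le_comap.2 fun f hf => ?_
      have hρ : ρ = (ρ.comp C).comp (eval (0 : Fin n × Fin n → k)) := by
        refine MvPolynomial.ringHom_ext (fun c => by simp) fun p => ?_
        show Ideal.Quotient.mk Q (Ideal.Quotient.mk P (X p)) = (ρ.comp C) (eval 0 (X p))
        rw [eval_X, Pi.zero_apply, map_zero]
        exact Ideal.Quotient.eq_zero_iff_mem.2 (hall p)
      have h' : ρ f = 0 := by rw [hρ, RingHom.comp_apply, RingHom.mem_ker.1 hf, map_zero]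
      show Ideal.Quotient.mk P f ∈ Q
      exact (Ideal.Quotient.eq_zero_iff_mem (I := Q)).1 h'
  have hlow : d ≤ n ^ 2 - n := by
    have h1 := Ideal.height_le_card_of_mem_minimalPrimes_span_finset (p := mb) hmb
    have h2 := GrothLib.AffDom.height_add_ringKrullDim_quotient (k := k) (R ⧸ P) mb
    have hf0 : ringKrullDim ((R ⧸ P) ⧸ mb) = 0 := by
      let _ : Field ((R ⧸ P) ⧸ mb) := Ideal.Quotient.field mb
      exact ringKrullDim_eq_zero_of_field _
    rw [hf0, add_zero, hd] at h2
    have h3 : mb.height = (d : ℕ∞) := WithBot.coe_injective h2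
    rw [h3] at h1
    have h4 := Nat.cast_le.1 h1
    exact h4.trans (Finset.card_image_le.trans hJcard)
  rw [hd]
  congr 1
  omega

end GrothLib.NilVariety
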